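import Mathlib

/-!
# Permutations of an affine space which locally agree with affine maps
-/

set_option autoImplicit false

namespace CfsgLib.AffineClosure

variable {K V : Type*} [Field K] [AddCommGroup V] [Module K V]

/-- If `f` agrees on every triple of points with some affine map and `2 ≠ 0`, then `f - f 0` is
additive. -/
theorem sub_zero_add (h2 : (2 : K) ≠ 0) (f : V → V)
    (h : ∀ t : Fin 3 → V, ∃ (A : V ≃ₗ[K] V) (b : V), ∀ i, f (t i) = A (t i) + b) (x y : V) :
    f (x + y) - f 0 = (f x - f 0) + (f y - f 0) := by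
  obtain ⟨A, b, hA⟩ := h ![(2 : K) • x, (2 : K) • y, x + y]
  obtain ⟨B, c, hB⟩ := h ![0, x, (2 : K) • x]
  obtain ⟨C, d, hC⟩ := h ![0, y, (2 : K) • y]
  have a0 := hA 0; have a1 := hA 1; have a2 := hA 2
  have b0 := hB 0; have b1 := hB 1; have b2 := hB 2
  have c0 := hC 0; have c1 := hC 1; have c2 := hC 2
  simp at a0 a1 a2 b0 b1 b2 c0 c1 c2
  have key : (2 : K) • (f (x + y) - f 0) = (2 : K) • ((f x - f 0) + (f y - f 0)) := by
    have e1 : (2 : K) • f (x + y) = f ((2 : K) • x) + f ((2 : K) • y) := by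
      rw [a0, a1, a2, two_smul, two_smul, two_smul]; abel
    have e2 : f ((2 : K) • x) = (2 : K) • f x - f 0 := by
      rw [b0, b1, b2, two_smul, two_smul]; abel
    have e3 : f ((2 : K) • y) = (2 : K) • f y - f 0 := by
      rw [c0, c1, c2, two_smul, two_smul]; abel
    rw [smul_sub, smul_add, smul_sub, smul_sub, e1, e2, e3]
    simp only [two_smul]
    abel
  exact smul_right_injective V h2 key

/-- If `f` agrees on every triple of points with some affine map and `2 ≠ 0`, then `f` is affine. -/
theorem exists_affine (h2 : (2 : K) ≠ 0) (f : Equiv.Perm V)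
    (h : ∀ t : Fin 3 → V, ∃ (A : V ≃ₗ[K] V) (b : V), ∀ i, f (t i) = A (t i) + b) :
    ∃ (A : V ≃ₗ[K] V) (b : V), ∀ x, f x = A x + b := by
  have hsm : ∀ (c : K) (x : V), f (c • x) - f 0 = c • (f x - f 0) := by
    intro c x
    obtain ⟨A, b, hA⟩ := h ![0, x, c • x]
    have a0 := hA 0; have a1 := hA 1; have a2 := hA 2
    simp at a0 a1 a2
    rw [a0, a1, a2, smul_sub, smul_add]
    abel
  let L : V →ₗ[K] V :=
    { toFun := fun x => f x - f 0
      map_add' := sub_zero_add h2 f h
      map_smul' := hsm }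
  have hb : Function.Bijective L := (Equiv.subRight (f 0)).bijective.comp f.bijective
  exact ⟨LinearEquiv.ofBijective L hb, f 0, fun x => by simp [L]⟩

end CfsgLib.AffineClosure
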